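import Mathlib
import Groth.Prelude.Def_LogDiff
import Groth.Prelude.Def_DeRham

/-!
The Cartier isomorphism for logarithmic forms on affine space: in characteristic `p` the cohomology
of the (log) de Rham complex of `R[t₁, …, tₙ]` is free on explicit classes over `R[t₁ᵖ, …, tₙᵖ]`.
The Lie derivative along each Euler field is null homotopic; its `(p-1)`-st power is a projector.
-/

universe u

noncomputable section

open MvPolynomial

namespace Groth.Agent.H44Log

set_option linter.unusedSectionVars false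

variable {p : ℕ} [hp : Fact p.Prime] {R : Type u} [CommRing R] [CharP R p] {n r : ℕ}

local notation "B" => MvPolynomial (Fin n) R

/-- `1` for a variable without pole, `0` for a logarithmic one. -/
def nl (r : ℕ) (ν : Fin n) : ℕ := if (ν : ℕ) < r then 0 else 1

variable {L : Type u} [AddCommGroup L] [Module (MvPolynomial (Fin n) R) L] [Module R L]
  [IsScalarTower R (MvPolynomial (Fin n) R) L]

/-- The data of logarithmic forms on affine space. -/
structure Data (p : ℕ) (R : Type u) [CommRing R] (n r : ℕ) (L : Type u) [AddCommGroup L]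
    [Module (MvPolynomial (Fin n) R) L] [Module R L] [IsScalarTower R (MvPolynomial (Fin n) R) L] where
  hr : r ≤ n
  ι : (Ω[MvPolynomial (Fin n) R⁄R]) →ₗ[MvPolynomial (Fin n) R] L
  dl : Fin r → L
  hL : LogDiff.IsLog (KaehlerDifferential.D R (MvPolynomial (Fin n) R))
    (fun i : Fin r => (MvPolynomial.X (Fin.castLE hr i) : MvPolynomial (Fin n) R)) ι dl
  d : ∀ q : ℕ, ↥(⋀[MvPolynomial (Fin n) R]^q L) →ₗ[R] ↥(⋀[MvPolynomial (Fin n) R]^(q + 1) L)
  hd : DeRham.IsDiff (ι.compDer (KaehlerDifferential.D R (MvPolynomial (Fin n) R))) d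
  hlog : LogDiff.IsLogRule (KaehlerDifferential.D R (MvPolynomial (Fin n) R)) ι dl d

variable (S : Data p R n r L)

/-- The frame. -/
def Data.v (ν : Fin n) : L :=
  if h : (ν : ℕ) < r then S.dl ⟨ν, h⟩ else S.ι (KaehlerDifferential.D R B (X ν))

theorem Data.v_cast (i : Fin r) : S.v (Fin.castLE S.hr i) = S.dl i := by
  rw [Data.v, dif_pos (show ((Fin.castLE S.hr i : Fin n) : ℕ) < r from i.2)]
  rfl

theorem Data.ι_D_X (ν : Fin n) :
    S.ι (KaehlerDifferential.D R B (X ν)) = (X ν : B) ^ (1 - nl r ν) • S.v ν := by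
  by_cases h : (ν : ℕ) < r
  · rw [nl, if_pos h, Data.v, dif_pos h, pow_one]
    exact (S.hL.1 ⟨ν, h⟩).symm
  · rw [nl, if_neg h, Data.v, dif_neg h, pow_zero, one_smul]

theorem Data.ι_D (f : B) :
    S.ι (KaehlerDifferential.D R B f) =
      ∑ μ, (pderiv μ f * (X μ : B) ^ (1 - nl r μ)) • S.v μ := by
  conv_lhs => rw [← (KaehlerDifferential.mvPolynomialBasis R (Fin n)).sum_repr
    (KaehlerDifferential.D R B f)]
  simp only [map_sum, map_smul, KaehlerDifferential.mvPolynomialBasis_repr_apply,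
    KaehlerDifferential.mvPolynomialBasis_apply, S.ι_D_X, smul_smul]

theorem Data.span_v : Submodule.span B (Set.range S.v) = ⊤ := by
  rw [eq_top_iff, ← S.hL.2.1, Submodule.span_le, Set.union_subset_iff]
  refine ⟨?_, ?_⟩
  · rintro _ ⟨ω, rfl⟩
    rw [← (KaehlerDifferential.mvPolynomialBasis R (Fin n)).sum_repr ω]
    simp only [map_sum, map_smul, KaehlerDifferential.mvPolynomialBasis_apply, S.ι_D_X, smul_smul]
    exact sum_mem fun μ _ => Submodule.smul_mem _ _ (Submodule.subset_span ⟨μ, rfl⟩)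
  · rintro _ ⟨i, rfl⟩
    exact Submodule.subset_span ⟨_, S.v_cast i⟩

theorem Data.linearIndependent_v : LinearIndependent B S.v := by
  rw [Fintype.linearIndependent_iff]
  intro c hc ν
  set f : Fin r → B := fun i => X (Fin.castLE S.hr i)
  set P : B := ∏ i, f i
  have hP : IsRegular P := IsRegular.prod fun i _ => MvPolynomial.isRegular_X
  -- multiply the relation by `P` to get a relation between the `ι dt`
  have hdiv : ∀ μ : Fin n, ∃ a : B, IsRegular a ∧ P • S.v μ = a • S.ι (KaehlerDifferential.D R B (X μ)) := by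
    intro μ
    by_cases h : (μ : ℕ) < r
    · classical
      refine ⟨∏ i ∈ Finset.univ.erase ⟨μ, h⟩, f i, IsRegular.prod fun i _ => MvPolynomial.isRegular_X, ?_⟩
      have e : P = (∏ i ∈ Finset.univ.erase (⟨μ, h⟩ : Fin r), f i) * (X μ : B) :=
        (Finset.prod_erase_mul Finset.univ f (Finset.mem_univ (⟨μ, h⟩ : Fin r))).symm
      rw [e, mul_smul, S.ι_D_X, nl, if_pos h, pow_one]
    · exact ⟨P, hP, by rw [S.ι_D_X, nl, if_neg h, pow_zero, one_smul]⟩
  choose a ha hav using hdiv
  have h0 : S.ι (∑ μ, (c μ * a μ) • KaehlerDifferential.D R B (X μ)) = 0 := by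
    simp only [map_sum, map_smul, mul_smul, ← hav]
    rw [← smul_zero P, ← hc, Finset.smul_sum]
    exact Finset.sum_congr rfl fun μ _ => smul_comm _ _ _
  obtain ⟨N, hN⟩ := (S.hL.2.2.2 _).1 h0
  have h1 := congrArg (fun z => (KaehlerDifferential.mvPolynomialBasis R (Fin n)).repr z ν) hN
  simp only [map_smul, map_sum, map_zero, Finsupp.coe_smul, Finsupp.coe_finsetSum, Pi.smul_apply,
    Finset.sum_apply, Finsupp.coe_zero, Pi.zero_apply, smul_eq_mul,
    KaehlerDifferential.mvPolynomialBasis_repr_D_X, Finsupp.single_apply, mul_ite, mul_one, mul_zero,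
    Finset.sum_ite_eq', Finset.mem_univ, if_true] at h1
  have h2 : c ν * a ν = 0 := (hP.pow N).left.eq_iff.1 (h1.trans (mul_zero _).symm)
  exact (ha ν).right.eq_iff.1 (h2.trans (zero_mul _).symm)

/-- The frame as a basis. -/
def Data.basis : Module.Basis (Fin n) B L :=
  Module.Basis.mk S.linearIndependent_v S.span_v.ge

@[simp] theorem Data.basis_apply (ν : Fin n) : S.basis ν = S.v ν := by simp [Data.basis]

/-- Interior product with `X ν ^ nl ν` times the coordinate field of `v ν`. -/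
def Data.ct (ν : Fin n) : ExteriorAlgebra B L →ₗ[B] ExteriorAlgebra B L :=
  ((X ν : B) ^ nl r ν) • CliffordAlgebra.contractLeft (Q := (0 : QuadraticForm B L)) (S.basis.coord ν)

/-- Wedge of frame vectors. -/
def Data.E {q : ℕ} (g : Fin q → Fin n) : ExteriorAlgebra B L :=
  ExteriorAlgebra.ιMulti B q (S.v ∘ g)

/-- Integral combinations of wedges of frame vectors. -/
def Data.grp (q : ℕ) : AddSubgroup (ExteriorAlgebra B L) :=
  AddSubgroup.closure (Set.range fun g : Fin q → Fin n => S.E g)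

theorem Data.E_succ {q : ℕ} (g : Fin (q + 1) → Fin n) :
    S.E g = ExteriorAlgebra.ι B (S.v (g 0)) * S.E (fun i => g i.succ) := by
  rw [Data.E, ExteriorAlgebra.ιMulti_succ_apply]
  rfl

theorem Data.ι_mul_mem_grp (μ : Fin n) {q : ℕ} {x : ExteriorAlgebra B L} (hx : x ∈ S.grp q) :
    ExteriorAlgebra.ι B (S.v μ) * x ∈ S.grp (q + 1) := by
  refine AddSubgroup.closure_induction ?_ ?_ (fun a b _ _ ha hb => ?_) (fun a _ ha => ?_) hx
  · rintro _ ⟨g, rfl⟩
    refine AddSubgroup.subset_closure ⟨Fin.cons μ g, ?_⟩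
    show S.E _ = _
    rw [S.E_succ]
    simp
  · rw [mul_zero]
    exact zero_mem _
  · rw [mul_add]
    exact add_mem ha hb
  · rw [mul_neg]
    exact neg_mem ha

/-- The interior product of a wedge. -/
def Data.cE (ν : Fin n) {q : ℕ} (g : Fin q → Fin n) : ExteriorAlgebra B L :=
  CliffordAlgebra.contractLeft (Q := (0 : QuadraticForm B L)) (S.basis.coord ν) (S.E g)

theorem Data.coord_v (ν μ : Fin n) : S.basis.coord ν (S.v μ) = if μ = ν then 1 else 0 := by
  rw [← S.basis_apply μ, Module.Basis.coord_apply, Module.Basis.repr_self, Finsupp.single_apply]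

theorem Data.cE_zero (ν : Fin n) (g : Fin 0 → Fin n) : S.cE ν g = 0 := by
  rw [Data.cE, Data.E, ExteriorAlgebra.ιMulti_zero_apply]
  exact CliffordAlgebra.contractLeft_one _ _

theorem Data.cE_succ (ν : Fin n) {q : ℕ} (g : Fin (q + 1) → Fin n) :
    S.cE ν g = (if g 0 = ν then 1 else 0 : B) • S.E (fun i => g i.succ) -
      ExteriorAlgebra.ι B (S.v (g 0)) * S.cE ν (fun i => g i.succ) := by
  rw [Data.cE, S.E_succ, ← S.coord_v]
  exact CliffordAlgebra.contractLeft_ι_mul _ _ _

theorem Data.cE_mem (ν : Fin n) : ∀ {q : ℕ} (g : Fin (q + 1) → Fin n), S.cE ν g ∈ S.grp q := by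
  intro q
  induction q with
  | zero =>
    intro g
    rw [S.cE_succ, S.cE_zero, mul_zero, sub_zero]
    split_ifs
    · rw [one_smul]
      exact AddSubgroup.subset_closure ⟨_, rfl⟩
    · rw [zero_smul]
      exact zero_mem _
  | succ q ih =>
    intro g
    rw [S.cE_succ]
    refine sub_mem ?_ (S.ι_mul_mem_grp _ (ih _))
    split_ifs
    · rw [one_smul]
      exact AddSubgroup.subset_closure ⟨_, rfl⟩
    · rw [zero_smul]
      exact zero_mem _

/-- The number of occurrences. -/
def cnt (ν : Fin n) {q : ℕ} (g : Fin q → Fin n) : ℕ := ∑ i, if g i = ν then 1 else 0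

theorem Data.v_mul_cE (ν : Fin n) : ∀ {q : ℕ} (g : Fin q → Fin n),
    ExteriorAlgebra.ι B (S.v ν) * S.cE ν g = cnt ν g • S.E g := by
  intro q
  induction q with
  | zero =>
    intro g
    rw [S.cE_zero, mul_zero, cnt, Finset.univ_eq_empty, Finset.sum_empty, zero_smul]
  | succ q ih =>
    intro g
    have hanti : ExteriorAlgebra.ι B (S.v ν) * ExteriorAlgebra.ι B (S.v (g 0)) =
        - (ExteriorAlgebra.ι B (S.v (g 0)) * ExteriorAlgebra.ι B (S.v ν)) :=
      eq_neg_of_add_eq_zero_left (ExteriorAlgebra.ι_add_mul_swap _ _)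
    rw [S.cE_succ, mul_sub, ← mul_assoc, hanti, neg_mul, sub_neg_eq_add, mul_assoc, ih,
      show ExteriorAlgebra.ι B (S.v (g 0)) * (cnt ν (fun i => g i.succ) • S.E (fun i => g i.succ)) =
        cnt ν (fun i => g i.succ) • S.E g by rw [mul_smul_comm, S.E_succ g],
      cnt, cnt, Fin.sum_univ_succ, add_smul, mul_smul_comm]
    congr 1
    split_ifs with h
    · rw [one_smul, one_smul, S.E_succ g, h]
    · simp

theorem Data.grp_mem {q : ℕ} {x : ExteriorAlgebra B L} (hx : x ∈ S.grp q) :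
    x ∈ ⋀[B]^q L ∧ ∀ (h : x ∈ ⋀[B]^q L) (f : B),
      (S.d q (f • (⟨x, h⟩ : ↥(⋀[B]^q L)))).1 =
        ExteriorAlgebra.ι B (S.ι (KaehlerDifferential.D R B f)) * x := by
  refine AddSubgroup.closure_induction ?_ ?_ (fun a b _ _ ha hb => ?_) (fun a _ ha => ?_) hx
  · rintro _ ⟨g, rfl⟩
    refine ⟨(exteriorPower.ιMulti B q (S.v ∘ g)).2, fun h f => ?_⟩
    have e := S.hlog q f (S.v ∘ g) fun k => by
      simp only [Function.comp_apply, Data.v]
      split_ifs
      · exact Or.inr ⟨_, rfl⟩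
      · exact Or.inl ⟨_, rfl⟩
    refine (congrArg Subtype.val e).trans ?_
    rw [exteriorPower.ιMulti_apply_coe, ExteriorAlgebra.ιMulti_succ_apply]
    simp [Data.E, Matrix.vecTail, Function.comp_def]
  · refine ⟨zero_mem _, fun h f => ?_⟩
    rw [show (⟨0, h⟩ : ↥(⋀[B]^q L)) = 0 from rfl, smul_zero, map_zero, mul_zero]
    rfl
  · refine ⟨add_mem ha.1 hb.1, fun h f => ?_⟩
    rw [show (⟨a + b, h⟩ : ↥(⋀[B]^q L)) = ⟨a, ha.1⟩ + ⟨b, hb.1⟩ from rfl, smul_add, map_add,
      Submodule.coe_add, ha.2 ha.1 f, hb.2 hb.1 f, mul_add]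
  · refine ⟨neg_mem ha.1, fun h f => ?_⟩
    rw [show (⟨-a, h⟩ : ↥(⋀[B]^q L)) = -⟨a, ha.1⟩ from rfl, smul_neg, map_neg, Submodule.coe_neg,
      ha.2 ha.1 f, mul_neg]

theorem Data.span_E (q : ℕ) :
    ⋀[B]^q L ≤ Submodule.span B (Set.range fun g : Fin q → Fin n => S.E g) := by
  intro x hx
  have h : (⟨x, hx⟩ : ↥(⋀[B]^q L)) ∈ Submodule.span B (Set.range (S.basis.exteriorPower q)) := by
    rw [(S.basis.exteriorPower q).span_eq]
    trivial
  have h' := Submodule.apply_mem_span_image_of_mem_span (⋀[B]^q L).subtype h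
  refine Submodule.span_mono ?_ h'
  rintro _ ⟨_, ⟨K, rfl⟩, rfl⟩
  refine ⟨Set.powersetCard.ofFinEmbEquiv.symm K, ?_⟩
  rw [exteriorPower.basis_apply]
  simp [Data.E, exteriorPower.ιMulti_family, Function.comp_def]

theorem Data.ct_mem (ν : Fin n) {q : ℕ} {x : ExteriorAlgebra B L} (hx : x ∈ ⋀[B]^(q + 1) L) :
    S.ct ν x ∈ ⋀[B]^q L := by
  refine (Submodule.span_le (p := (⋀[B]^q L).comap (S.ct ν))).2 ?_ (S.span_E (q + 1) hx)
  rintro _ ⟨g, rfl⟩
  exact Submodule.smul_mem _ _ (S.grp_mem (S.cE_mem ν g)).1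

/-- The interior product in fixed degree. -/
def Data.c (ν : Fin n) (q : ℕ) : ↥(⋀[B]^(q + 1) L) →ₗ[B] ↥(⋀[B]^q L) :=
  (S.ct ν).restrict fun _ hx => S.ct_mem ν hx

/-- The Lie derivative. -/
def Data.T (ν : Fin n) : ∀ q : ℕ, Module.End R ↥(⋀[B]^q L)
  | 0 => ((S.c ν 0).restrictScalars R).comp (S.d 0)
  | q + 1 => (S.d q).comp ((S.c ν q).restrictScalars R) +
      ((S.c ν (q + 1)).restrictScalars R).comp (S.d (q + 1))

theorem Data.dd (q : ℕ) (x : ↥(⋀[B]^q L)) : S.d (q + 1) (S.d q x) = 0 :=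
  LinearMap.congr_fun (S.hd.2 q) x

theorem Data.T_d (ν : Fin n) : ∀ (q : ℕ) (x : ↥(⋀[B]^q L)),
    S.T ν (q + 1) (S.d q x) = S.d q (S.T ν q x)
  | 0, x => by simp [Data.T, S.dd]
  | q + 1, x => by simp [Data.T, S.dd]

theorem Data.T_exact (ν : Fin n) : ∀ (q : ℕ) (x : ↥(⋀[B]^q L)), x ∈ DeRham.cocycles S.d q →
    S.T ν q x ∈ DeRham.coboundaries S.d q
  | 0, x, hx => by
    have : S.d 0 x = 0 := hx
    simp [Data.T, this, DeRham.coboundaries]
  | q + 1, x, hx => by
    have : S.d (q + 1) x = 0 := hx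
    refine ⟨S.c ν q x, ?_⟩
    simp [Data.T, this]

theorem Data.coboundaries_le : ∀ q : ℕ, DeRham.coboundaries S.d q ≤ DeRham.cocycles S.d q
  | 0 => bot_le
  | q + 1 => by
    rintro _ ⟨x, rfl⟩
    exact S.dd q x

/-- The exponent attached to a monomial wedge. -/
def wt (r : ℕ) (ν : Fin n) (m : Fin n →₀ ℕ) {q : ℕ} (g : Fin q → Fin n) : ℕ :=
  m ν + nl r ν * cnt ν g

theorem Data.T_monomial (ν : Fin n) : ∀ {q : ℕ} (g : Fin q → Fin n) (m : Fin n →₀ ℕ) (a : R),
    S.T ν q (monomial m a • exteriorPower.ιMulti B q (S.v ∘ g)) =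
      wt r ν m g • (monomial m a • exteriorPower.ιMulti B q (S.v ∘ g)) := by
  intro q g m a
  set f : B := monomial m a
  set τ : B := (X ν : B) ^ nl r ν with hτ
  have hgE : S.E g ∈ S.grp q := AddSubgroup.subset_closure ⟨g, rfl⟩
  have hdf : (S.d q (f • exteriorPower.ιMulti B q (S.v ∘ g))).1 =
      ExteriorAlgebra.ι B (S.ι (KaehlerDifferential.D R B f)) * S.E g :=
    (S.grp_mem hgE).2 (exteriorPower.ιMulti B q (S.v ∘ g)).2 f
  have hcoord : τ * S.basis.coord ν (S.ι (KaehlerDifferential.D R B f)) = m ν • f := by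
    rw [S.ι_D, map_sum]
    simp only [map_smul, S.coord_v, smul_eq_mul, mul_ite, mul_one, mul_zero, Finset.sum_ite_eq',
      Finset.mem_univ, if_true]
    rw [← mul_assoc, mul_comm τ, mul_assoc, hτ, ← pow_add,
      show nl r ν + (1 - nl r ν) = 1 by unfold nl; split_ifs <;> rfl, pow_one, mul_comm]
    exact X_mul_pderiv_monomial
  -- the contraction of `d`
  have hcd : (S.c ν q (S.d q (f • exteriorPower.ιMulti B q (S.v ∘ g)))).1 =
      (m ν • f) • S.E g -
        τ • (ExteriorAlgebra.ι B (S.ι (KaehlerDifferential.D R B f)) * S.cE ν g) := by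
    rw [Data.c, LinearMap.coe_restrict_apply, hdf, Data.ct, LinearMap.smul_apply,
      CliffordAlgebra.contractLeft_ι_mul, smul_sub, smul_smul, hcoord]
    rfl
  match q, g with
  | 0, g =>
    refine Subtype.ext ?_
    show (S.c ν 0 (S.d 0 _)).1 = _
    rw [hcd, S.cE_zero, mul_zero, smul_zero, sub_zero, wt, cnt, Finset.univ_eq_empty,
      Finset.sum_empty, mul_zero, add_zero, smul_assoc]
    rfl
  | q + 1, g =>
    refine Subtype.ext ?_
    show (S.d q (S.c ν q (f • exteriorPower.ιMulti B (q + 1) (S.v ∘ g)))).1 +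
      (S.c ν (q + 1) (S.d (q + 1) (f • exteriorPower.ιMulti B (q + 1) (S.v ∘ g)))).1 = _
    have hx := S.grp_mem (S.cE_mem ν g)
    have e : S.c ν q (f • exteriorPower.ιMulti B (q + 1) (S.v ∘ g)) = (f * τ) • ⟨S.cE ν g, hx.1⟩ := by
      refine Subtype.ext ?_
      rw [map_smul, Submodule.coe_smul, Data.c, LinearMap.coe_restrict_apply, Data.ct,
        LinearMap.smul_apply, smul_smul]
      rfl
    rw [hcd, e, hx.2 hx.1, Derivation.leibniz, map_add, map_smul, map_smul, map_add, map_smul,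
      map_smul, add_mul, smul_mul_assoc, smul_mul_assoc]
    have hτd : f • (ExteriorAlgebra.ι B (S.ι (KaehlerDifferential.D R B τ)) * S.cE ν g) =
        (nl r ν * cnt ν g) • (f • S.E g) := by
      rw [hτ]
      by_cases h : (ν : ℕ) < r
      · simp [nl, h]
      · rw [nl, if_neg h, pow_one, one_mul, S.ι_D_X, nl, if_neg h, pow_zero, one_smul, S.v_mul_cE,
          smul_comm]
    rw [hτd]
    simp only [wt, add_smul, smul_assoc, Submodule.coe_add, Submodule.coe_smul_of_tower]
    rw [show (exteriorPower.ιMulti B (q + 1) (S.v ∘ g)).1 = S.E g from rfl]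
    abel

omit hp in
theorem T_iterate {M : Type*} [AddCommGroup M] [Module R M] (T : Module.End R M) {x : M} {N : ℕ}
    (h : T x = N • x) : ∀ k : ℕ, (T ^ k) x = N ^ k • x
  | 0 => by simp
  | k + 1 => by rw [pow_succ', Module.End.mul_apply, T_iterate T h k, map_nsmul, h, smul_smul, pow_succ]

theorem nsmul_pow_sub_one {M : Type*} [AddCommGroup M] [Module R M] (x : M) (N : ℕ) :
    N ^ (p - 1) • x = if p ∣ N then 0 else x := by
  rw [← Nat.cast_smul_eq_nsmul R, Nat.cast_pow, ← map_natCast (ZMod.castHom dvd_rfl R) N, ← map_pow]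
  split_ifs with h
  · rw [(CharP.cast_eq_zero_iff (ZMod p) p N).2 h, zero_pow (Nat.sub_ne_zero_of_lt hp.out.one_lt),
      map_zero, zero_smul]
  · rw [ZMod.pow_card_sub_one_eq_one (fun h0 => h ((CharP.cast_eq_zero_iff (ZMod p) p N).1 h0)),
      map_one, one_smul]

/-- The projector onto the weights divisible by `p` in the variable `ν`. -/
def Data.π (ν : Fin n) (q : ℕ) : Module.End R ↥(⋀[B]^q L) := 1 - (S.T ν q) ^ (p - 1)

/-- The product of all projectors. -/
def Data.proj (q : ℕ) : List (Fin n) → Module.End R ↥(⋀[B]^q L)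
  | [] => 1
  | ν :: l => S.π ν q * Data.proj q l

theorem Data.pow_T_d (ν : Fin n) (q : ℕ) : ∀ (k : ℕ) (x : ↥(⋀[B]^q L)),
    (S.T ν (q + 1) ^ k) (S.d q x) = S.d q ((S.T ν q ^ k) x)
  | 0, x => rfl
  | k + 1, x => by
    rw [pow_succ', pow_succ', Module.End.mul_apply, Module.End.mul_apply, Data.pow_T_d ν q k, S.T_d]

theorem Data.proj_d (q : ℕ) : ∀ (l : List (Fin n)) (x : ↥(⋀[B]^q L)),
    S.proj (q + 1) l (S.d q x) = S.d q (S.proj q l x)
  | [], x => rfl
  | ν :: l, x => by
    simp [Data.proj, Data.π, Data.proj_d q l, S.pow_T_d]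

theorem Data.T_pow_exact (ν : Fin n) (q : ℕ) : ∀ (k : ℕ), 0 < k → ∀ x ∈ DeRham.cocycles S.d q,
    (S.T ν q ^ k) x ∈ DeRham.coboundaries S.d q
  | 0, h, _, _ => absurd h (lt_irrefl 0)
  | 1, _, x, hx => by simpa using S.T_exact ν q x hx
  | k + 2, _, x, hx => by
    rw [pow_succ', Module.End.mul_apply]
    exact S.T_exact ν q _ (S.coboundaries_le q (Data.T_pow_exact ν q (k + 1) k.succ_pos x hx))

theorem Data.sub_proj_exact (q : ℕ) : ∀ (l : List (Fin n)) (x : ↥(⋀[B]^q L)),
    x ∈ DeRham.cocycles S.d q → x - S.proj q l x ∈ DeRham.coboundaries S.d q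
  | [], x, _ => by simp [Data.proj]
  | ν :: l, x, hx => by
    have h := Data.sub_proj_exact q l x hx
    have hy : S.proj q l x ∈ DeRham.cocycles S.d q := by
      have := Submodule.sub_mem _ hx (S.coboundaries_le q h)
      simpa using this
    have e : x - S.proj q (ν :: l) x = (x - S.proj q l x) + (S.T ν q ^ (p - 1)) (S.proj q l x) := by
      simp [Data.proj, Data.π]
      abel
    rw [e]
    exact add_mem h (S.T_pow_exact ν q _ (Nat.sub_pos_of_lt hp.out.one_lt) _ hy)

theorem Data.proj_monomial {q : ℕ} (g : Fin q → Fin n) (m : Fin n →₀ ℕ) (a : R) :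
    ∀ l : List (Fin n), S.proj q l (monomial m a • exteriorPower.ιMulti B q (S.v ∘ g)) =
      if ∀ ν ∈ l, p ∣ wt r ν m g then monomial m a • exteriorPower.ιMulti B q (S.v ∘ g) else 0
  | [] => by simp [Data.proj]
  | ν :: l => by
    rw [Data.proj, Module.End.mul_apply, Data.proj_monomial g m a l]
    by_cases hl : ∀ μ ∈ l, p ∣ wt r μ m g
    · rw [if_pos hl, Data.π, LinearMap.sub_apply, Module.End.one_apply,
        T_iterate _ (S.T_monomial ν g m a), nsmul_pow_sub_one (R := R)]
      by_cases hν : p ∣ wt r ν m g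
      · rw [if_pos hν, sub_zero, if_pos (by simpa [hν] using hl)]
      · rw [if_neg hν, sub_self, if_neg (fun h => hν (h ν (List.mem_cons_self)))]
    · rw [if_neg hl, map_zero, if_neg (fun h => hl fun μ hμ => h μ (List.mem_cons_of_mem _ hμ))]

/-! ### the closed forms -/

/-- The monomial factor of the standard class. -/
def P (p r : ℕ) {q : ℕ} (g : Fin q → Fin n) : Fin n →₀ ℕ :=
  ∑ j, Finsupp.single (g j) ((p - 1) * nl r (g j))

omit hp in
theorem P_apply {q : ℕ} (g : Fin q → Fin n) (ν : Fin n) :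
    P p r g ν = (p - 1) * nl r ν * cnt ν g := by
  rw [P, Finsupp.finsetSum_apply, cnt, Finset.mul_sum]
  refine Finset.sum_congr rfl fun j _ => ?_
  rw [Finsupp.single_apply]
  split_ifs with h
  · rw [h, mul_one]
  · rw [mul_zero]

theorem dvd_wt_expand {q : ℕ} (g : Fin q → Fin n) (m : Fin n →₀ ℕ) (ν : Fin n) :
    p ∣ wt r ν (p • m + P p r g) g := by
  refine ⟨m ν + nl r ν * cnt ν g, ?_⟩
  rw [wt, Finsupp.add_apply, Finsupp.smul_apply, P_apply, smul_eq_mul]
  obtain ⟨k, rfl⟩ : ∃ k, p = k + 1 := ⟨p - 1, (Nat.sub_add_cancel hp.out.pos).symm⟩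
  rw [Nat.add_sub_cancel]
  ring

theorem exists_expand {q : ℕ} (g : Fin q → Fin n) (hg : Function.Injective g) (m : Fin n →₀ ℕ)
    (h : ∀ ν, p ∣ wt r ν m g) : ∃ m', m = p • m' + P p r g := by
  refine ⟨Finsupp.equivFunOnFinite.symm fun ν => (m ν - P p r g ν) / p, Finsupp.ext fun ν => ?_⟩
  obtain ⟨c, hc⟩ := h ν
  have hcnt : cnt ν g ≤ 1 := by
    rw [cnt, Finset.sum_boole, Nat.cast_id, Finset.card_le_one]
    intro i hi j hj
    rw [Finset.mem_filter] at hi hj
    exact hg (hi.2.trans hj.2.symm)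
  have hnl : nl r ν * cnt ν g ≤ 1 := by
    refine le_trans (Nat.mul_le_mul ?_ hcnt) (le_of_eq (mul_one 1))
    unfold nl; split_ifs <;> simp
  simp only [Finsupp.add_apply, Finsupp.smul_apply, Finsupp.equivFunOnFinite_symm_apply_apply,
    smul_eq_mul, P_apply, mul_assoc]
  rw [wt] at hc
  have hp2 := hp.out.two_le
  generalize nl r ν * cnt ν g = e at hc hnl ⊢
  interval_cases e
  · simp only [mul_zero, Nat.sub_zero, add_zero] at hc ⊢
    rw [hc, Nat.mul_div_cancel_left _ hp.out.pos]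
  · rw [mul_one]
    have hc0 : c ≠ 0 := by rintro rfl; omega
    obtain ⟨c, rfl⟩ := Nat.exists_eq_succ_of_ne_zero hc0
    rw [Nat.mul_succ] at hc
    have hm : m ν = p * c + (p - 1) := by omega
    rw [hm, Nat.add_sub_cancel, Nat.mul_div_cancel_left _ hp.out.pos]

theorem Data.d_monomial_eq_zero {q : ℕ} (g : Fin q → Fin n) (m : Fin n →₀ ℕ) (a : R)
    (h : ∀ ν, p ∣ wt r ν m g) :
    S.d q (monomial m a • exteriorPower.ιMulti B q (S.v ∘ g)) = 0 := by
  refine Subtype.ext ?_
  refine ((S.grp_mem (AddSubgroup.subset_closure ⟨g, rfl⟩ : S.E g ∈ S.grp q)).2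
    (exteriorPower.ιMulti B q (S.v ∘ g)).2 (monomial m a)).trans ?_
  rw [S.ι_D, map_sum, Finset.sum_mul]
  refine Finset.sum_eq_zero fun μ _ => ?_
  rw [map_smul, smul_mul_assoc]
  by_cases hμ : ∃ j, g j = μ
  · obtain ⟨j, rfl⟩ := hμ
    have : ExteriorAlgebra.ι B (S.v (g j)) * S.E g = 0 := by
      have := (ExteriorAlgebra.ιMulti B (q + 1)).map_eq_zero_of_eq (Fin.cons (S.v (g j)) (S.v ∘ g))
        (i := 0) (j := j.succ) (by rw [Fin.cons_zero, Fin.cons_succ]; rfl)
        (Fin.succ_ne_zero j).symm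
      rw [ExteriorAlgebra.ιMulti_succ_apply] at this
      simpa [Data.E, Matrix.vecTail, Function.comp_def] using this
    rw [this, smul_zero]
  · have hc : cnt μ g = 0 := Finset.sum_eq_zero fun j _ => if_neg fun hj => hμ ⟨j, hj⟩
    have hm := h μ
    rw [wt, hc, mul_zero, add_zero] at hm
    rw [pderiv_monomial, (CharP.cast_eq_zero_iff R p (m μ)).2 hm, mul_zero, map_zero, zero_mul,
      zero_smul]

/-- Combinations with coefficients in `p`-th powers of the standard classes. -/
def Data.classes (S : Data p R n r L) {q : ℕ} (e : Finset (Fin n) → ↥(⋀[B]^q L)) :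
    AddSubgroup ↥(⋀[B]^q L) where
  carrier := {x | ∃ g : Finset (Fin n) → B,
    x = ∑ s ∈ Finset.powersetCard q Finset.univ, MvPolynomial.expand p (g s) • e s}
  zero_mem' := ⟨0, by simp⟩
  add_mem' := by
    rintro _ _ ⟨g, rfl⟩ ⟨h, rfl⟩
    exact ⟨g + h, by simp [add_smul, Finset.sum_add_distrib]⟩
  neg_mem' := by
    rintro _ ⟨g, rfl⟩
    exact ⟨-g, by
      rw [← Finset.sum_neg_distrib]
      exact Finset.sum_congr rfl fun s _ => by rw [Pi.neg_apply, map_neg]; exact (neg_smul (_ : MvPolynomial (Fin n) R) _).symm⟩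

theorem prod_pow_X {q : ℕ} (g : Fin q → Fin n) (e : Fin n → ℕ) :
    ∏ j, (X (g j) : B) ^ e (g j) = monomial (∑ j, Finsupp.single (g j) (e (g j))) 1 := by
  rw [monomial_sum_one]
  exact Finset.prod_congr rfl fun j _ => X_pow_eq_monomial

/-- The increasing enumeration. -/
def emb {q : ℕ} (s : Finset (Fin n)) (hs : s.card = q) : Fin q → Fin n := fun j => s.orderEmbOfFin hs j

theorem emb_injective {q : ℕ} (s : Finset (Fin n)) (hs : s.card = q) :
    Function.Injective (emb s hs) := (s.orderEmbOfFin hs).injective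

variable {q : ℕ} {w : Fin n → L} {e : Finset (Fin n) → ↥(⋀[MvPolynomial (Fin n) R]^q L)}
  (hw : ∀ i : Fin r, w (Fin.castLE S.hr i) = S.dl i)
  (hw' : ∀ ν : Fin n, r ≤ (ν : ℕ) → w ν = S.ι (((MvPolynomial.X ν : MvPolynomial (Fin n) R) ^ (p - 1)) •
      KaehlerDifferential.D R (MvPolynomial (Fin n) R) (MvPolynomial.X ν)))
  (he : ∀ (s : Finset (Fin n)) (hs : s.card = q),
      e s = exteriorPower.ιMulti (MvPolynomial (Fin n) R) q (fun j => w (s.orderEmbOfFin hs j)))

include hw hw' in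
theorem Data.w_eq (ν : Fin n) : w ν = ((X ν : B) ^ ((p - 1) * nl r ν)) • S.v ν := by
  by_cases h : (ν : ℕ) < r
  · rw [nl, if_pos h, mul_zero, pow_zero, one_smul, Data.v, dif_pos h]
    exact hw ⟨ν, h⟩
  · rw [nl, if_neg h, mul_one, Data.v, dif_neg h, hw' ν (not_lt.1 h), map_smul]

include hw hw' he in
theorem Data.expand_smul_e (s : Finset (Fin n)) (hs : s.card = q) (m : Fin n →₀ ℕ) (a : R) :
    MvPolynomial.expand p (monomial m a) • e s =
      monomial (p • m + P p r (emb s hs)) a • exteriorPower.ιMulti B q (S.v ∘ emb s hs) := by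
  rw [he s hs, MvPolynomial.expand_monomial]
  have : (fun j => w (s.orderEmbOfFin hs j)) =
      fun j => ((X (emb s hs j) : B) ^ ((p - 1) * nl r (emb s hs j))) • S.v (emb s hs j) :=
    funext fun j => S.w_eq hw hw' _
  rw [this]
  erw [AlternatingMap.map_smul_univ (exteriorPower.ιMulti B q)
    (fun j => (X (emb s hs j) : B) ^ ((p - 1) * nl r (emb s hs j))) (S.v ∘ emb s hs)]
  rw [smul_smul, prod_pow_X (emb s hs) (fun ν => (p - 1) * nl r ν), monomial_mul, mul_one]
  rfl

include hw hw' he in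
theorem Data.d_class (g : Finset (Fin n) → B) :
    S.d q (∑ s ∈ Finset.powersetCard q Finset.univ, MvPolynomial.expand p (g s) • e s) = 0 := by
  rw [map_sum]
  refine Finset.sum_eq_zero fun s hs => ?_
  rw [(g s).as_sum, map_sum, Finset.sum_smul, map_sum]
  refine Finset.sum_eq_zero fun m _ => ?_
  rw [S.expand_smul_e hw hw' he s (Finset.mem_powersetCard.1 hs).2]
  exact S.d_monomial_eq_zero _ _ _ (dvd_wt_expand _ _)

include hw hw' he in
theorem Data.proj_class (g : Finset (Fin n) → B) :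
    S.proj q (List.finRange n) (∑ s ∈ Finset.powersetCard q Finset.univ, MvPolynomial.expand p (g s) • e s) =
      ∑ s ∈ Finset.powersetCard q Finset.univ, MvPolynomial.expand p (g s) • e s := by
  rw [map_sum]
  refine Finset.sum_congr rfl fun s hs => ?_
  rw [(g s).as_sum, map_sum, Finset.sum_smul, map_sum]
  refine Finset.sum_congr rfl fun m _ => ?_
  rw [S.expand_smul_e hw hw' he s (Finset.mem_powersetCard.1 hs).2, S.proj_monomial,
    if_pos (fun ν _ => dvd_wt_expand _ _ ν)]

theorem Data.eq_sum (x : ↥(⋀[B]^q L)) :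
    x = ∑ K : Set.powersetCard (Fin n) q,
      ((S.basis.exteriorPower q).repr x K) • exteriorPower.ιMulti B q (S.v ∘ emb K.1 K.2) := by
  conv_lhs => rw [← (S.basis.exteriorPower q).sum_repr x]
  refine Finset.sum_congr rfl fun K _ => ?_
  rw [exteriorPower.basis_apply]
  simp [exteriorPower.ιMulti_family, Function.comp_def, emb,
    Set.powersetCard.ofFinEmbEquiv_symm_apply]

include hw hw' he in
theorem Data.proj_mem_classes (x : ↥(⋀[B]^q L)) :
    S.proj q (List.finRange n) x ∈ S.classes e := by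
  classical
  rw [S.eq_sum x, map_sum]
  refine sum_mem fun K _ => ?_
  rw [((S.basis.exteriorPower q).repr x K).as_sum, Finset.sum_smul, map_sum]
  refine sum_mem fun m _ => ?_
  rw [S.proj_monomial]
  split_ifs with h
  · obtain ⟨m', hm'⟩ := exists_expand (p := p) (emb K.1 K.2) (emb_injective _ _) m
      fun ν => h ν (List.mem_finRange ν)
    refine ⟨fun s => if s = K.1 then monomial m' (coeff m ((S.basis.exteriorPower q).repr x K)) else 0, ?_⟩
    rw [Finset.sum_eq_single K.1]
    · beta_reduce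
      rw [if_pos rfl, S.expand_smul_e hw hw' he K.1 K.2, ← hm']
    · intro s _ hs
      beta_reduce
      rw [if_neg hs, map_zero, zero_smul]
    · exact fun hK => absurd (Finset.mem_powersetCard.2 ⟨Finset.subset_univ _, K.2⟩) hK
  · exact zero_mem _

include hw hw' he in
theorem Data.class_eq_zero (g : Finset (Fin n) → B)
    (h : ∑ s ∈ Finset.powersetCard q Finset.univ, MvPolynomial.expand p (g s) • e s = 0) :
    ∀ s ∈ Finset.powersetCard q (Finset.univ : Finset (Fin n)), g s = 0 := by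
  classical
  intro s hs
  have hs' := (Finset.mem_powersetCard.1 hs).2
  have he' : ∀ t ∈ Finset.powersetCard q (Finset.univ : Finset (Fin n)), ∀ ht : t.card = q,
      MvPolynomial.expand p (g t) • e t = (MvPolynomial.expand p (g t) * monomial (P p r (emb t ht)) 1) •
        S.basis.exteriorPower q ⟨t, ht⟩ := by
    intro t _ ht
    have e1 := S.expand_smul_e hw hw' he t ht 0 1
    rw [monomial_zero', map_one, map_one, one_smul, smul_zero, zero_add] at e1
    rw [e1, smul_smul, exteriorPower.basis_apply]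
    simp [exteriorPower.ιMulti_family, Function.comp_def, emb,
      Set.powersetCard.ofFinEmbEquiv_symm_apply]
  have h1 := congrArg (fun z => (S.basis.exteriorPower q).repr z ⟨s, hs'⟩) h
  simp only [map_sum, Finsupp.finsetSum_apply, map_zero, Finsupp.zero_apply] at h1
  rw [Finset.sum_eq_single s, he' s hs hs', map_smul, Module.Basis.repr_self, Finsupp.smul_apply,
    Finsupp.single_eq_same, smul_eq_mul, mul_one] at h1
  · have hreg : IsRegular (monomial (P p r (emb s hs')) (1 : R) : B) := by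
      rw [P, monomial_sum_one]
      refine IsRegular.prod fun j _ => ?_
      rw [← X_pow_eq_monomial]
      exact MvPolynomial.isRegular_X.pow _
    have h2 : MvPolynomial.expand p (g s) = 0 := hreg.right.eq_iff.1 (h1.trans (zero_mul _).symm)
    exact MvPolynomial.expand_injective hp.out.pos (h2.trans (map_zero _).symm)
  · intro t ht hne
    rw [he' t ht (Finset.mem_powersetCard.1 ht).2, map_smul, Module.Basis.repr_self, Finsupp.smul_apply,
      Finsupp.single_eq_of_ne, smul_zero]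
    exact fun h => hne (congrArg Subtype.val h).symm
  · exact fun hn => absurd hs hn

include hw hw' he in
theorem Data.mem_cocycles_iff :
    (∀ ω, ω ∈ DeRham.cocycles S.d q ↔
      ∃ (g : Finset (Fin n) → B) (η : ↥(⋀[B]^q L)), η ∈ DeRham.coboundaries S.d q ∧
          ω = η + ∑ s ∈ Finset.powersetCard q Finset.univ, MvPolynomial.expand p (g s) • e s) ∧
    (∀ g : Finset (Fin n) → B,
      (∑ s ∈ Finset.powersetCard q Finset.univ, MvPolynomial.expand p (g s) • e s) ∈
          DeRham.coboundaries S.d q →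
        ∀ s ∈ Finset.powersetCard q (Finset.univ : Finset (Fin n)), g s = 0) := by
  refine ⟨fun ω => ⟨fun hω => ?_, ?_⟩, fun g hg => S.class_eq_zero hw hw' he g ?_⟩
  · obtain ⟨g, hg⟩ := S.proj_mem_classes hw hw' he ω
    exact ⟨g, _, S.sub_proj_exact q (List.finRange n) ω hω, by rw [← hg, sub_add_cancel]⟩
  · rintro ⟨g, η, hη, rfl⟩
    exact add_mem (S.coboundaries_le q hη) (S.d_class hw hw' he g)
  · cases q with
    | zero => exact hg
    | succ q =>
      obtain ⟨y, hy⟩ := hg
      rw [← S.proj_class hw hw' he g, ← hy, S.proj_d]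
      -- `proj y` is a combination of monomial wedges of weight divisible by `p`, hence closed
      rw [S.eq_sum y, map_sum, map_sum]
      refine Finset.sum_eq_zero fun K _ => ?_
      rw [((S.basis.exteriorPower q).repr y K).as_sum, Finset.sum_smul, map_sum, map_sum]
      refine Finset.sum_eq_zero fun m _ => ?_
      rw [S.proj_monomial]
      split_ifs with h
      · exact S.d_monomial_eq_zero _ _ _ fun ν => h ν (List.mem_finRange ν)
      · exact map_zero _

end Groth.Agent.H44Log
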